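/-
The normal closure of the residual of an isolated p-minimal subgroup, with O_p factored out.
-/
import Cfsg.Agent.Lib.Components
import Cfsg.Agent.Lib.PSolvable
import Cfsg.Agent.Lib.PResidual
import Cfsg.Agent.Lib.Coprime

set_option autoImplicit false
open scoped commutatorElement
open Cfsg

namespace CfsgLib.Isolated

variable {G : Type*} [Group G] {p : ℕ}

theorem fitting_char (H : Type*) [Group H] [Finite H] : (fittingSubgroup H).Characteristic := by
  refine Subgroup.characteristic_iff_map_le.2 fun e => ?_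
  haveI := CfsgLib.isNilpotent_fittingSubgroup (G := H)
  haveI := (CfsgLib.fittingSubgroup_eq_iSup_pCore (G := H)).symm ▸ (inferInstance : (fittingSubgroup H).Normal)
  rw [CfsgLib.fittingSubgroup_eq_iSup_pCore, Subgroup.map_iSup]
  exact iSup_mono fun q => (CfsgLib.pCore_map_equiv _ e).le

/-- Abstract setting. -/
structure Ctx (p : ℕ) (S P Q R Y : Subgroup G) : Prop where
  Sp : IsPGroup p S
  QS : Q ≤ S
  QN : S ≤ Subgroup.normalizer (Q : Set G)
  SR : S ⊔ R = P
  RN : P ≤ Subgroup.normalizer (R : Set G)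
  Rnp : ¬ IsPGroup p R
  Rgen : R ≤ Subgroup.closure {g : G | g ∈ R ∧ (orderOf g).Coprime p}
  gen : ∀ X : Subgroup G, S ≤ X → P ≤ X ∨ X ≤ Subgroup.normalizer (Q : Set G)
  top : Subgroup.normalizer (Q : Set G) ⊔ P = ⊤
  clos : ∀ N : Subgroup G, N ≤ P → P ≤ Subgroup.normalizer (N : Set G) → Q ≤ N → R ≤ N
  hY : Y = Subgroup.normalClosure (R : Set G)
  hop : ∀ N : Subgroup G, N.Normal → IsPGroup p N → N ≤ Y → N = ⊥

variable {S P Q R Y : Subgroup G} (C : Ctx p S P Q R Y)
include C

namespace Ctx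

theorem SP : S ≤ P := C.SR ▸ le_sup_left

theorem RP : R ≤ P := C.SR ▸ le_sup_right

theorem RY : R ≤ Y := C.hY ▸ Subgroup.le_normalClosure

theorem Ynormal : Y.Normal := C.hY ▸ Subgroup.normalClosure_normal

theorem Ymin {N : Subgroup G} [N.Normal] (h : R ≤ N) : Y ≤ N := C.hY ▸ Subgroup.normalClosure_le_normal h

theorem not_le_nQ : ¬ P ≤ Subgroup.normalizer (Q : Set G) := fun h =>
  C.Rnp ((C.Sp.to_le C.QS).to_le (C.clos Q (C.QS.trans C.SP) h le_rfl))

theorem R_le [Finite G] [Fact p.Prime] {N X : Subgroup G} (hSN : S ≤ Subgroup.normalizer (N : Set G))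
    (h : P ≤ X) (hX : X ≤ N ⊔ S) : R ≤ N := by
  refine C.Rgen.trans ((Subgroup.closure_le _).2 fun g ⟨hgR, hg⟩ => ?_)
  have hgX : g ∈ N ⊔ S := hX (h (C.RP hgR))
  obtain ⟨H, hHdef⟩ : ∃ H, H = N ⊔ S := ⟨_, rfl⟩
  rw [← hHdef] at hgX
  have hNH : N ≤ H := hHdef ▸ le_sup_left
  haveI : (N.subgroupOf H).Normal := (Subgroup.normal_subgroupOf_iff_le_normalizer hNH).2
    (hHdef ▸ sup_le Subgroup.le_normalizer hSN)
  have htop : S.subgroupOf H ⊔ N.subgroupOf H = ⊤ := by
    rw [← Subgroup.subgroupOf_sup (hHdef ▸ le_sup_right) hNH, sup_comm, ← hHdef, Subgroup.subgroupOf_self]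
  obtain ⟨k, hk⟩ := CfsgLib.PResidual.pow_mem_sylow_sup (H := N.subgroupOf H) (P := S.subgroupOf H)
    (C.Sp.comap_subtype) (x := (⟨g, hgX⟩ : H)) (htop ▸ Subgroup.mem_top _)
  exact CfsgLib.PResidual.mem_of_pow_mem hg (show g ^ p ^ k ∈ N from hk)

/-- A subgroup invariant under `S` either captures `R` or normalises `Q`. -/
theorem dich [Finite G] [Fact p.Prime] {N : Subgroup G} (hSN : S ≤ Subgroup.normalizer (N : Set G)) :
    R ≤ N ∨ (N ≤ Subgroup.normalizer (Q : Set G) ∧ Q ≤ Subgroup.normalizer (N : Set G) ∧ ⁅N, Q⁆ ≤ N ⊓ Q) := by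
  rcases C.gen (N ⊔ S) le_sup_right with h | h
  · exact Or.inl (C.R_le hSN h le_rfl)
  · right
    have hNQ : N ≤ Subgroup.normalizer (Q : Set G) := le_sup_left.trans h
    have hQN : Q ≤ Subgroup.normalizer (N : Set G) := C.QS.trans hSN
    refine ⟨hNQ, hQN, le_inf (CfsgLib.commutator_le_of_le_normalizer hQN) ?_⟩
    rw [Subgroup.commutator_comm]
    exact CfsgLib.commutator_le_of_le_normalizer hNQ

theorem op_sub [Finite G] {T : Subgroup G} (hTY : T ≤ Y) (hT : (T.subgroupOf Y).IsSubnormal)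
    (hTp : IsPGroup p T) : T = ⊥ := by
  haveI := C.Ynormal
  obtain ⟨M, hM⟩ : ∃ M, M = (pCore p ↥Y).map Y.subtype := ⟨_, rfl⟩
  have hchar : (pCore p ↥Y).Characteristic := inferInstance
  have hMn : M.Normal := hM ▸ ConjAct.normal_of_characteristic_of_normal
  have hMp : IsPGroup p M := hM ▸ (CfsgLib.isPGroup_pCore p).map _
  have h0 := C.hop M hMn hMp (hM ▸ Subgroup.map_subtype_le _)
  have h1 := CfsgLib.isSubnormal_isPGroup_le_pCore hT (hTp.comap_subtype)
  have h2 : T ≤ M := by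
    rw [hM, ← Subgroup.map_subgroupOf_eq_of_le hTY]
    exact Subgroup.map_mono h1
  exact le_bot_iff.1 (h2.trans h0.le)

/-- A normal `S`-invariant subgroup of `Y` not capturing `R` is centralised by `Q`. -/
theorem cent_of_not [Finite G] [Fact p.Prime] {N : Subgroup G} (hNY : N ≤ Y)
    (hYN : Y ≤ Subgroup.normalizer (N : Set G)) (hSN : S ≤ Subgroup.normalizer (N : Set G)) (hR : ¬ R ≤ N) :
    ⁅N, Q⁆ = ⊥ := by
  obtain ⟨h1, h2, h3⟩ := (C.dich hSN).resolve_left hR
  refine le_bot_iff.1 (h3.trans (C.op_sub (inf_le_left.trans hNY) ?_ ((C.Sp.to_le C.QS).to_le inf_le_right)).le)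
  have hNn : (N.subgroupOf Y).Normal := (Subgroup.normal_subgroupOf_iff_le_normalizer hNY).2 hYN
  have hi : ((N ⊓ Q).subgroupOf Y).subgroupOf (N.subgroupOf Y) |>.Normal := by
    refine ⟨fun n hn g => ?_⟩
    simp only [Subgroup.mem_subgroupOf, Subgroup.mem_inf, Subgroup.coe_mul, Subgroup.coe_inv] at hn ⊢
    exact ⟨N.mul_mem (N.mul_mem g.2 hn.1) (N.inv_mem g.2),
      (Subgroup.mem_normalizer_iff.1 (h1 g.2) _).1 hn.2⟩
  exact hi.isSubnormal.trans (Subgroup.subgroupOf_mono _ inf_le_left) hNn.isSubnormal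

theorem cent_Y [Finite G] {N : Subgroup G} [N.Normal] (h : ⁅N, Q⁆ = ⊥) : N ≤ Subgroup.centralizer (Y : Set G) := by
  rw [Subgroup.commutator_comm, Subgroup.commutator_eq_bot_iff_le_centralizer] at h
  haveI : (Subgroup.centralizer (N : Set G)).Normal := Subgroup.normal_centralizer
  have hR : R ≤ P ⊓ Subgroup.centralizer (N : Set G) := C.clos _ inf_le_left (fun x hx => by
      rw [Subgroup.mem_normalizer_iff]
      intro y
      simp only [Subgroup.mem_inf]
      constructor
      · exact fun hy => ⟨P.mul_mem (P.mul_mem hx hy.1) (P.inv_mem hx), Subgroup.Normal.conj_mem inferInstance y hy.2 x⟩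
      · intro hy
        have h1 := P.mul_mem (P.mul_mem (P.inv_mem hx) hy.1) hx
        have h2 := Subgroup.Normal.conj_mem (inferInstance : (Subgroup.centralizer (N : Set G)).Normal) _ hy.2 x⁻¹
        exact ⟨by simpa [mul_assoc] using h1, by simpa [mul_assoc] using h2⟩)
    (le_inf (C.QS.trans C.SP) h)
  exact Subgroup.le_centralizer_iff.1 (C.Ymin (hR.trans inf_le_right))

/-- A proper normal subgroup of `G` inside `Y` is central in `Y`. -/
theorem central [Finite G] [Fact p.Prime] {N : Subgroup G} [N.Normal] (hNY : N ≤ Y) (hne : N ≠ Y) :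
    N ≤ Subgroup.centralizer (Y : Set G) ∧ ⁅N, Q⁆ = ⊥ := by
  have hR : ¬ R ≤ N := fun h => hne (le_antisymm hNY (C.Ymin h))
  have h := C.cent_of_not hNY ((Subgroup.normalizer_eq_top (H := N)).ge.trans' le_top)
    ((Subgroup.normalizer_eq_top (H := N)).ge.trans' le_top) hR
  exact ⟨C.cent_Y h, h⟩

theorem char_dich [Finite G] [Fact p.Prime] (K : Subgroup ↥Y) [K.Characteristic] :
    K = ⊤ ∨ (K ≤ Subgroup.center ↥Y ∧ ⁅K.map Y.subtype, Q⁆ = ⊥) := by
  haveI := C.Ynormal
  haveI : (K.map Y.subtype).Normal := ConjAct.normal_of_characteristic_of_normal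
  by_cases h : K.map Y.subtype = Y
  · exact Or.inl (eq_top_iff.2 fun y _ => by
      obtain ⟨k, hk, hky⟩ := h.ge y.2
      rwa [← Subtype.ext hky])
  · right
    obtain ⟨h1, h2⟩ := C.central (Subgroup.map_subtype_le K) h
    exact ⟨fun k hk => Subgroup.mem_center_iff.2 fun y => Subtype.ext (h1 ⟨k, hk, rfl⟩ (y : G) y.2), h2⟩

theorem Y_nQ : ¬ Y ≤ Subgroup.normalizer (Q : Set G) := fun h =>
  C.not_le_nQ (C.SR ▸ sup_le C.QN (C.RY.trans h))

theorem center_ne_top [Finite G] [Fact p.Prime] (hns : ¬ Group.IsSolvable ↥Y) : Subgroup.center ↥Y ≠ ⊤ := fun h =>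
  hns (Group.isSolvable_of_comm fun a b => (Subgroup.mem_center_iff.1 (h.ge (Subgroup.mem_top b)) a))

theorem ne_bot : Y ≠ ⊥ := fun h => C.Rnp ((IsPGroup.of_bot : IsPGroup p (⊥ : Subgroup G)).to_le (h ▸ C.RY))

/-- In the non-solvable case `Y` is its own layer. -/
theorem layer_top [Finite G] [Fact p.Prime] (hns : ¬ Group.IsSolvable ↥Y) : layer ↥Y = ⊤ := by
  haveI : (layer ↥Y).Characteristic := Subgroup.characteristic_iff_map_eq.2 fun e => CfsgLib.map_layer_equiv e
  haveI : (fittingSubgroup ↥Y).Characteristic := fitting_char _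
  refine (C.char_dich (layer ↥Y)).resolve_right fun ⟨h1, _⟩ => ?_
  have hl : layer ↥Y = ⊥ := by
    rw [← CfsgLib.layer_commutator_self, Subgroup.commutator_eq_bot_iff_le_centralizer]
    exact h1.trans (fun z hz y _ => (Subgroup.mem_center_iff.1 hz y))
  have hF : fittingSubgroup ↥Y ≤ Subgroup.center ↥Y := by
    refine ((C.char_dich (fittingSubgroup ↥Y)).resolve_left fun h => hns ?_).1
    haveI := CfsgLib.isNilpotent_fittingSubgroup (G := ↥Y)
    haveI : Group.IsNilpotent ↥Y := Group.nilpotent_of_mulEquiv ((MulEquiv.subgroupCongr h).trans Subgroup.topEquiv)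
    infer_instance
  refine C.center_ne_top hns (eq_top_iff.2 fun y _ => ?_)
  have hy : y ∈ Subgroup.centralizer (generalizedFittingSubgroup ↥Y : Set ↥Y) := fun z hz => by
    rw [generalizedFittingSubgroup, hl, bot_sup_eq] at hz
    exact (Subgroup.mem_center_iff.1 (hF hz) y).symm
  have := CfsgLib.centralizer_generalizedFitting_le hy
  rw [generalizedFittingSubgroup, hl, bot_sup_eq] at this
  exact hF this

/-- The solvable case: `Y` is nilpotent of order prime to `p`. -/
theorem nilp_of_solvable [Finite G] [Fact p.Prime] (hs : Group.IsSolvable ↥Y) :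
    Group.IsNilpotent ↥Y ∧ ¬ p ∣ Nat.card ↥Y := by
  haveI := C.Ynormal
  haveI : (fittingSubgroup ↥Y).Characteristic := fitting_char _
  have hF : fittingSubgroup ↥Y = ⊤ := by
    rcases C.char_dich (fittingSubgroup ↥Y) with h | ⟨h, -⟩
    · exact h
    · refine eq_top_iff.2 fun y _ => CfsgLib.centralizer_fitting_le (G := ↥Y) ?_
      exact fun z hz => (Subgroup.mem_center_iff.1 (h hz) y).symm
  have hnil : Group.IsNilpotent ↥Y := by
    haveI := CfsgLib.isNilpotent_fittingSubgroup (G := ↥Y)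
    exact Group.nilpotent_of_mulEquiv ((MulEquiv.subgroupCongr hF).trans Subgroup.topEquiv)
  refine ⟨hnil, fun hd => ?_⟩
  obtain ⟨T⟩ : Nonempty (Sylow p ↥Y) := inferInstance
  haveI := (inferInstance : (T : Subgroup ↥Y).Normal)
  have hbot : (T : Subgroup ↥Y).map Y.subtype = ⊥ := by
    refine C.op_sub (Subgroup.map_subtype_le _) ?_ (T.2.map _)
    rw [Subgroup.subgroupOf, Subgroup.comap_map_eq_self_of_injective Y.subtype_injective]
    exact Subgroup.Normal.isSubnormal inferInstance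
  have hne := T.ne_bot_of_dvd_card hd
  exact hne (Subgroup.map_eq_bot_iff_of_injective _ Y.subtype_injective |>.1 hbot)

/-- Solvable case: `Y` is a `t`-group of class at most two. -/
theorem solvable_tgroup [Finite G] [Fact p.Prime] (hs : Group.IsSolvable ↥Y) :
    ∃ t : ℕ, t.Prime ∧ t ≠ p ∧ IsPGroup t ↥Y ∧ commutator ↥Y ≤ Subgroup.center ↥Y ∧ commutator ↥Y ≠ ⊤ := by
  haveI := C.Ynormal
  obtain ⟨hnil, hp⟩ := C.nilp_of_solvable hs
  have hcomm : commutator ↥Y ≠ ⊤ := fun h => C.ne_bot (by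
    have hl := Subgroup.nilpotent_iff_lowerCentralSeries.1 hnil
    obtain ⟨n, hn⟩ := hl
    have : ∀ k, (⊤ : Subgroup ↥Y).lowerCentralSeries k = ⊤ := fun k => by
      induction k with
      | zero => simp
      | succ k ih =>
        rw [Subgroup.lowerCentralSeries_succ, ih]
        rw [commutator_def] at h
        exact h
    have h0 : (⊤ : Subgroup ↥Y) = ⊥ := (this n).symm.trans hn
    rw [← Subgroup.range_subtype Y, MonoidHom.range_eq_map, h0, Subgroup.map_bot])
  obtain ⟨t, ht, htop⟩ : ∃ t : ℕ, t.Prime ∧ pCore t ↥Y = ⊤ := by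
    by_contra hall
    push Not at hall
    refine C.Y_nQ ?_
    have hle : (fittingSubgroup ↥Y).map Y.subtype ≤ Subgroup.normalizer (Q : Set G) := by
      rw [CfsgLib.fittingSubgroup_eq_iSup_pCore, Subgroup.map_iSup]
      refine iSup_le fun t => ?_
      haveI : (pCore (t : ℕ) ↥Y).Characteristic := inferInstance
      obtain ⟨-, h⟩ := (C.char_dich (pCore (t : ℕ) ↥Y)).resolve_left (hall t t.2)
      rw [Subgroup.commutator_eq_bot_iff_le_centralizer] at h
      exact h.trans (Subgroup.centralizer_le_normalizer _)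
    have hF : fittingSubgroup ↥Y = ⊤ := eq_top_iff.2 (CfsgLib.le_fittingSubgroup
      (Group.nilpotent_of_mulEquiv Subgroup.topEquiv.symm))
    rwa [hF, ← MonoidHom.range_eq_map, Subgroup.range_subtype] at hle
  refine ⟨t, ht, ?_, ?_, ?_, hcomm⟩
  · rintro rfl
    refine C.ne_bot (C.op_sub le_rfl ?_ ?_)
    · rw [Subgroup.subgroupOf_self]; exact Subgroup.IsSubnormal.top
    · have := CfsgLib.isPGroup_pCore (G := ↥Y) t
      rw [htop] at this
      exact this.of_equiv Subgroup.topEquiv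
  · have := CfsgLib.isPGroup_pCore (G := ↥Y) t
    rw [htop] at this
    exact this.of_equiv Subgroup.topEquiv
  · exact ((C.char_dich (commutator ↥Y)).resolve_left hcomm).1

end Ctx

end CfsgLib.Isolated
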